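import Groth.Agent.GrpdQ.Fibres
import Groth.Prelude.Def_CoactBr
import Mathlib.RingTheory.HopfAlgebra.Convolution
import Mathlib.RingTheory.Nullstellensatz

/-!
# Two geometric points with the same image in the invariants of a finite locally free group scheme are conjugate
-/

set_option autoImplicit false
set_option linter.style.haveILetI false
universe u

open TensorProduct WithConv Polynomial CategoryTheory

namespace Groth.Agent.CoactPts

variable (R A : Type u) [CommRing R] [CommRing A] [HopfAlgebra R A]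

section Shear

variable (T : Type u) [CommRing T] [Algebra R T]

/-- the `T`-endomorphism of `T ⊗ A` translating by a point of the group -/
noncomputable def shearHom (x : WithConv (A →ₐ[R] T)) : T ⊗[R] A →ₐ[T] T ⊗[R] A :=
  Algebra.TensorProduct.lift (Algebra.ofId T (T ⊗[R] A))
    (toConv ((Algebra.TensorProduct.includeLeft : T →ₐ[R] T ⊗[R] A).comp x.ofConv) *
      toConv (Algebra.TensorProduct.includeRight : A →ₐ[R] T ⊗[R] A)).ofConv
    fun _ _ => Commute.all _ _

theorem shearHom_tmul_one (x : WithConv (A →ₐ[R] T)) (a : A) :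
    shearHom R A T x (1 ⊗ₜ a) =
      (toConv ((Algebra.TensorProduct.includeLeft : T →ₐ[R] T ⊗[R] A).comp x.ofConv) *
        toConv (Algebra.TensorProduct.includeRight : A →ₐ[R] T ⊗[R] A)).ofConv a := by
  simp [shearHom, ← Algebra.TensorProduct.one_def]

theorem shearHom_one : shearHom R A T 1 = AlgHom.id T _ := by
  refine Algebra.TensorProduct.ext (AlgHom.ext fun c => (AlgHom.commutes _ c).trans (AlgHom.commutes _ c).symm)
    (AlgHom.ext fun a => ?_)
  show shearHom R A T 1 (1 ⊗ₜ a) = 1 ⊗ₜ a
  rw [shearHom_tmul_one]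
  have e : toConv ((Algebra.TensorProduct.includeLeft : T →ₐ[R] T ⊗[R] A).comp (1 : WithConv (A →ₐ[R] T)).ofConv) = 1 := by
    apply WithConv.ofConv_injective
    ext b
    simp [AlgHom.convOne_apply]
  rw [e, one_mul]
  rfl

theorem shearHom_comp (x y : WithConv (A →ₐ[R] T)) :
    (shearHom R A T x).comp (shearHom R A T y) = shearHom R A T (y * x) := by
  refine Algebra.TensorProduct.ext (AlgHom.ext fun c => ((AlgHom.commutes _ c).trans (AlgHom.commutes _ c).symm))
    (AlgHom.ext fun a => ?_)
  show shearHom R A T x (shearHom R A T y (1 ⊗ₜ a)) = shearHom R A T (y * x) (1 ⊗ₜ a)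
  rw [shearHom_tmul_one, shearHom_tmul_one]
  set ι : T →ₐ[R] T ⊗[R] A := Algebra.TensorProduct.includeLeft
  set r : A →ₐ[R] T ⊗[R] A := Algebra.TensorProduct.includeRight
  have e1 : toConv (((shearHom R A T x).restrictScalars R).comp (toConv (ι.comp y.ofConv)).ofConv) =
      toConv (ι.comp y.ofConv) := by
    apply WithConv.ofConv_injective
    ext b
    exact (shearHom R A T x).commutes (y.ofConv b)
  have e2 : toConv (((shearHom R A T x).restrictScalars R).comp (toConv r).ofConv) =
      toConv (ι.comp x.ofConv) * toConv r := by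
    apply WithConv.ofConv_injective
    ext b
    exact shearHom_tmul_one R A T x b
  have e3 : toConv (ι.comp (y * x).ofConv) = toConv (ι.comp y.ofConv) * toConv (ι.comp x.ofConv) :=
    (congrArg toConv (AlgHom.comp_convMul_distrib ι y x))
  have := congrArg (fun f => f a)
    (AlgHom.comp_convMul_distrib ((shearHom R A T x).restrictScalars R) (toConv (ι.comp y.ofConv)) (toConv r))
  refine this.trans ?_
  rw [e1, e2, ← mul_assoc, ← e3]

/-- the inverse of a point -/
noncomputable def pinv (x : WithConv (A →ₐ[R] T)) : WithConv (A →ₐ[R] T) :=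
  toConv (x.ofConv.comp (toConv (AlgHom.id R A))⁻¹.ofConv)

theorem pinv_mul (x : WithConv (A →ₐ[R] T)) : pinv R A T x * x = 1 := by
  apply WithConv.ofConv_injective
  have h := AlgHom.comp_convMul_distrib x.ofConv (toConv (AlgHom.id R A))⁻¹ (toConv (AlgHom.id R A))
  rw [inv_mul_cancel] at h
  exact h.symm.trans (by ext a; simp [AlgHom.convOne_apply])

theorem mul_pinv (x : WithConv (A →ₐ[R] T)) : x * pinv R A T x = 1 := by
  apply WithConv.ofConv_injective
  have h := AlgHom.comp_convMul_distrib x.ofConv (toConv (AlgHom.id R A)) (toConv (AlgHom.id R A))⁻¹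
  rw [mul_inv_cancel] at h
  exact h.symm.trans (by ext a; simp [AlgHom.convOne_apply])

/-- translation by a point is an automorphism of `T ⊗ A` over `T` -/
noncomputable def shear (x : WithConv (A →ₐ[R] T)) : T ⊗[R] A ≃ₐ[T] T ⊗[R] A :=
  AlgEquiv.ofAlgHom (shearHom R A T x) (shearHom R A T (pinv R A T x))
    (by rw [shearHom_comp, pinv_mul, shearHom_one]) (by rw [shearHom_comp, mul_pinv, shearHom_one])

end Shear

section Frame

variable {R A} {n : ℕ} (F₀ : GrpdQ.Frame (algebraMap R A) n)
variable (T : Type u) [CommRing T] [Algebra R T]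

/-- the coefficient functionals of a frame, linearly over the base -/
noncomputable def coord (i : Fin n) : A →ₗ[R] R where
  toFun := F₀.φ i
  map_add' := map_add _
  map_smul' c z := by rw [Algebra.smul_def]; exact F₀.smul i c z

/-- a frame of `T ⊗ A` over `T` -/
noncomputable def bcFrame :
    GrpdQ.Frame (Algebra.TensorProduct.includeLeftRingHom : T →+* T ⊗[R] A) n where
  b i := 1 ⊗ₜ F₀.b i
  φ i := ((TensorProduct.AlgebraTensorModule.rid R T T).toLinearMap.comp ((coord F₀ i).baseChange T)).toAddMonoidHom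
  smul i a z := by
    have : Algebra.TensorProduct.includeLeftRingHom a * z = a • z := by
      rw [Algebra.smul_def]; rfl
    rw [this]
    simp
  sum z := by
    induction z with
    | zero => simp
    | add y z hy hz => simp only [map_add, add_mul, Finset.sum_add_distrib, hy, hz]
    | tmul t a =>
      conv_rhs => rw [← F₀.sum a, tmul_sum]
      refine Finset.sum_congr rfl fun i _ => ?_
      show ((coord F₀ i a • t) ⊗ₜ[R] (1 : A)) * ((1 : T) ⊗ₜ[R] F₀.b i) = _
      rw [Algebra.TensorProduct.tmul_mul_tmul, mul_one, one_mul, smul_tmul, Algebra.smul_def]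
      rfl

theorem bcFrame_mat_map {T' : Type u} [CommRing T'] [Algebra R T'] (f : T →ₐ[R] T') (z : T ⊗[R] A) :
    (bcFrame F₀ T').mat (Algebra.TensorProduct.map f (AlgHom.id R A) z) = ((bcFrame F₀ T).mat z).map f := by
  have h : ∀ (i : Fin n) (w : T ⊗[R] A), (bcFrame F₀ T').φ i (Algebra.TensorProduct.map f (AlgHom.id R A) w) =
      f ((bcFrame F₀ T).φ i w) := by
    intro i w
    induction w with
    | zero => simp
    | add y z hy hz => simp only [map_add, hy, hz]
    | tmul t a => exact (map_smul f (coord F₀ i a) t).symm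
  ext i j
  simp only [GrpdQ.Frame.mat, Matrix.of_apply, Matrix.map_apply]
  rw [← h]
  congr 1
  simp [bcFrame]

theorem bcFrame_cp_map {T' : Type u} [CommRing T'] [Algebra R T'] (f : T →ₐ[R] T') (z : T ⊗[R] A) :
    (bcFrame F₀ T').cp (Algebra.TensorProduct.map f (AlgHom.id R A) z) =
      ((bcFrame F₀ T).cp z).map (f : T →+* T') := by
  rw [GrpdQ.Frame.cp, GrpdQ.Frame.cp, ← Matrix.charpoly_map, bcFrame_mat_map F₀ T f z]
  rfl

theorem bcFrame_cp_shear (x : WithConv (A →ₐ[R] T)) (z : T ⊗[R] A) :
    (bcFrame F₀ T).cp (shear R A T x z) = (bcFrame F₀ T).cp z := by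
  let Θ := shear R A T x
  let F' : GrpdQ.Frame (Algebra.TensorProduct.includeLeftRingHom : T →+* T ⊗[R] A) n :=
    { b := fun i => Θ ((bcFrame F₀ T).b i)
      φ := fun i => ((bcFrame F₀ T).φ i).comp Θ.symm.toLinearMap.toAddMonoidHom
      smul := fun i a w => by
        show (bcFrame F₀ T).φ i (Θ.symm (_ * w)) = a * (bcFrame F₀ T).φ i (Θ.symm w)
        rw [map_mul, show Θ.symm (Algebra.TensorProduct.includeLeftRingHom a) =
          Algebra.TensorProduct.includeLeftRingHom a from Θ.symm.commutes a]
        exact (bcFrame F₀ T).smul i a _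
      sum := fun w => by
        have := congrArg Θ ((bcFrame F₀ T).sum (Θ.symm w))
        rw [map_sum, AlgEquiv.apply_symm_apply] at this
        refine Eq.trans (Finset.sum_congr rfl fun i _ => ?_) this
        rw [map_mul, show Θ (Algebra.TensorProduct.includeLeftRingHom ((bcFrame F₀ T).φ i (Θ.symm w))) =
          Algebra.TensorProduct.includeLeftRingHom ((bcFrame F₀ T).φ i (Θ.symm w)) from Θ.commutes _]
        rfl }
  rw [← F'.cp_eq' (bcFrame F₀ T) (Θ z), GrpdQ.Frame.cp, GrpdQ.Frame.cp]
  congr 1
  ext i j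
  show (bcFrame F₀ T).φ i (Θ.symm (Θ z * Θ ((bcFrame F₀ T).b j))) = _
  rw [← map_mul, AlgEquiv.symm_apply_apply]
  rfl

end Frame

section Inv

variable {R A} (B : Type u) [CommRing B] [Algebra R B] [HopfRep.Comod R A B] [GLin.IsCoactAlg R A B]
variable {n : ℕ} (F₀ : GrpdQ.Frame (algebraMap R A) n)

/-- the padded characteristic polynomial of `ρ f` -/
noncomputable def charP (f : B) : B[X] := (bcFrame F₀ B).cp (GLin.coactAlgHom R A B f)

theorem charP_coeff_mem (f : B) (i : ℕ) : (charP B F₀ f).coeff i ∈ GLin.invariants R A B := by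
  set ρ := GLin.coactAlgHom R A B with hρ
  let ι : B →ₐ[R] B ⊗[R] A := Algebra.TensorProduct.includeLeft
  let j : WithConv (A →ₐ[R] B ⊗[R] A) := toConv Algebra.TensorProduct.includeRight
  have key : Algebra.TensorProduct.map ρ (AlgHom.id R A) (ρ f) =
      shear R A (B ⊗[R] A) j (Algebra.TensorProduct.map ι (AlgHom.id R A) (ρ f)) := by
    apply (TensorProduct.assoc R B A A).injective
    have hco := LinearMap.congr_fun (HopfRep.Comod.coassoc (k := R) (A := A) (V := B)) f
    simp only [LinearMap.comp_apply, LinearEquiv.coe_coe] at hco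
    have el : Algebra.TensorProduct.map ρ (AlgHom.id R A) (ρ f) =
        (HopfRep.Comod.coact (k := R) (A := A)).rTensor A (HopfRep.Comod.coact (k := R) (A := A) f) := by
      show _ = (HopfRep.Comod.coact (k := R) (A := A)).rTensor A (ρ f)
      generalize ρ f = z
      induction z with
      | zero => simp
      | tmul p q => simp [hρ]
      | add y z hy hz => simp only [map_add, hy, hz]
    rw [el, hco]
    show _ = TensorProduct.assoc R B A A (shear R A (B ⊗[R] A) j (Algebra.TensorProduct.map ι (AlgHom.id R A) (ρ f)))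
    rw [show HopfRep.Comod.coact (k := R) (A := A) f = ρ f from rfl]
    generalize ρ f = z
    induction z with
    | zero => simp
    | add y z hy hz => simp only [map_add, hy, hz]
    | tmul p q =>
      have e : shear R A (B ⊗[R] A) j (ι p ⊗ₜ[R] q) =
          (TensorProduct.assoc R B A A).symm (p ⊗ₜ[R] Coalgebra.comul (R := R) q) := by
        have : shear R A (B ⊗[R] A) j (ι p ⊗ₜ[R] q) =
            (ι p ⊗ₜ[R] (1 : A)) * shearHom R A (B ⊗[R] A) j (1 ⊗ₜ q) := by
          have h1 : shearHom R A (B ⊗[R] A) j (ι p ⊗ₜ[R] q) =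
              shearHom R A (B ⊗[R] A) j (algebraMap (B ⊗[R] A) ((B ⊗[R] A) ⊗[R] A) (ι p) * (1 ⊗ₜ q)) := by
            simp [Algebra.TensorProduct.algebraMap_apply]
          exact h1.trans (by rw [map_mul, AlgHom.commutes, Algebra.TensorProduct.algebraMap_apply]; rfl)
        rw [this, shearHom_tmul_one, AlgHom.convMul_apply]
        generalize Coalgebra.comul (R := R) q = w
        induction w with
        | zero => simp
        | add y z hy hz => simp only [map_add, mul_add, tmul_add, hy, hz]
        | tmul a b => simp [ι, j]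
      rw [Algebra.TensorProduct.map_tmul, AlgHom.id_apply, e]
      simp
  have h1 := bcFrame_cp_map F₀ B ρ (ρ f)
  have h2 := bcFrame_cp_map F₀ B ι (ρ f)
  rw [key, bcFrame_cp_shear, h2] at h1
  have := congrArg (fun p => p.coeff i) h1
  simp only [coeff_map] at this
  exact this.symm

theorem eval_charP (f : B) : (charP B F₀ f).eval f = 0 := by
  let e : B ⊗[R] A →ₐ[B] B :=
    Algebra.TensorProduct.lift (AlgHom.id B B) ((Algebra.ofId R B).comp (Bialgebra.counitAlgHom R A))
      fun _ _ => Commute.all _ _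
  have hef : e (GLin.coactAlgHom R A B f) = f := by
    have h := LinearMap.congr_fun (HopfRep.Comod.counit_comp (k := R) (A := A) (V := B)) f
    have h' := congrArg (TensorProduct.rid R B) h
    simp only [LinearMap.comp_apply] at h'
    refine Eq.trans ?_ (h'.trans (by simp))
    rw [GLin.coactAlgHom_apply]
    generalize HopfRep.Comod.coact (k := R) (A := A) f = z
    induction z with
    | zero => simp
    | tmul p q => simp [e, Algebra.ofId_apply, Algebra.smul_def, mul_comm]
    | add y z hy hz => simp only [map_add, hy, hz]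
  have h := congrArg e ((bcFrame F₀ B).eval₂_cp (GLin.coactAlgHom R A B f))
  rw [map_zero, ← AlgHom.coe_toRingHom, hom_eval₂] at h
  refine Eq.trans ?_ h
  have hc : (e : B ⊗[R] A →+* B).comp Algebra.TensorProduct.includeLeftRingHom = RingHom.id B :=
    RingHom.ext fun c => e.commutes c
  rw [hc, show (e : B ⊗[R] A →+* B) (GLin.coactAlgHom R A B f) = f from hef]
  rfl

end Inv

section Main

variable {R A} {B : Type u} [CommRing B] [Algebra R B] [HopfRep.Comod R A B] [GLin.IsCoactAlg R A B]

/-- The right translate of a point. -/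
noncomputable def tr {L : Type u} [CommRing L] [Algebra R L] (x : B →ₐ[R] L) (g : A →ₐ[R] L) : B →ₐ[R] L :=
  (Algebra.TensorProduct.lift x g fun _ _ => .all _ _).comp (GLin.coactAlgHom R A B)

theorem mem_range_of_invariant (hC : Function.Bijective (algebraMap R (GLin.invariants R A B))) {c : B}
    (hc : c ∈ GLin.invariants R A B) : ∃ r : R, algebraMap R B r = c := by
  obtain ⟨r, hr⟩ := hC.2 ⟨c, hc⟩
  exact ⟨r, congrArg Subtype.val hr⟩

theorem isIntegral_of_bijective [Module.Finite R A] [Module.Projective R A]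
    (hC : Function.Bijective (algebraMap R (GLin.invariants R A B))) : Algebra.IsIntegral R B := by
  refine ⟨fun f => ?_⟩
  obtain ⟨n, ⟨F₀⟩⟩ := GrpdQ.Frame.exists_of_projective (A := R) (B := A)
  have hl : charP B F₀ f ∈ Polynomial.lifts (algebraMap R B) := by
    rw [Polynomial.lifts_iff_coeff_lifts]
    intro i
    exact mem_range_of_invariant hC (charP_coeff_mem B F₀ f i)
  obtain ⟨q, hq, -, hqm⟩ := Polynomial.lifts_and_natDegree_eq_and_monic hl (GrpdQ.Frame.monic_cp _ _)
  refine ⟨q, hqm, ?_⟩
  rw [eval₂_eq_eval_map, hq, eval_charP]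

theorem isIntegral_invariants [Module.Finite R A] [Module.Projective R A] :
    Algebra.IsIntegral (GLin.invariants R A B) B := by
  refine ⟨fun f => ?_⟩
  obtain ⟨n, ⟨F₀⟩⟩ := GrpdQ.Frame.exists_of_projective (A := R) (B := A)
  have hl : charP B F₀ f ∈ Polynomial.lifts (algebraMap (GLin.invariants R A B) B) := by
    rw [Polynomial.lifts_iff_coeff_lifts]
    intro i
    exact ⟨⟨_, charP_coeff_mem B F₀ f i⟩, rfl⟩
  obtain ⟨q, hq, -, hqm⟩ := Polynomial.lifts_and_natDegree_eq_and_monic hl (GrpdQ.Frame.monic_cp _ _)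
  refine ⟨q, hqm, ?_⟩
  rw [eval₂_eq_eval_map, hq, eval_charP]

theorem tr_invariant {L : Type u} [CommRing L] [Algebra R L] (x : B →ₐ[R] L) (g : A →ₐ[R] L) {c : B}
    (hc : c ∈ GLin.invariants R A B) : tr x g c = x c := by
  show Algebra.TensorProduct.lift x g (fun _ _ => .all _ _) (GLin.coactAlgHom R A B c) = x c
  rw [GLin.coactAlgHom_apply, show HopfRep.Comod.coact (k := R) (A := A) c = c ⊗ₜ[R] (1 : A) from hc]
  simp

/-- Two geometric points agreeing on the invariants are translates of one another. -/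
theorem exists_tr_eq' [Module.Finite R A] [Module.Projective R A]
    {K : Type u} [Field K] [IsAlgClosed K] [Algebra R K] (x₁ x₂ : B →ₐ[R] K)
    (hx : ∀ c ∈ GLin.invariants R A B, x₁ c = x₂ c) :
    ∃ g : A →ₐ[R] K, tr x₂ g = x₁ := by
  classical
  haveI := isIntegral_invariants (R := R) (A := A) (B := B)
  obtain ⟨n, ⟨F₀⟩⟩ := GrpdQ.Frame.exists_of_projective (A := R) (B := A)
  haveI : Finite (A →ₐ[R] K) := by
    haveI : Finite (K ⊗[R] A →ₐ[K] K) := Finite.algHom K _ K
    refine Finite.of_injective (β := K ⊗[R] A →ₐ[K] K)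
      (fun g => Algebra.TensorProduct.lift (AlgHom.id K K) g fun _ _ => Commute.all _ _) fun g g' e => AlgHom.ext fun a => ?_
    simpa using AlgHom.congr_fun e (1 ⊗ₜ a)
  by_contra hne
  simp only [not_exists] at hne
  obtain ⟨f, hf₀, hf⟩ := GrpdQ.exists_separate (x₁ : B →+* K) (fun g : A →ₐ[R] K => (tr x₂ g : B →+* K))
    (fun g h => hne g (AlgHom.coe_ringHom_injective h))
    (fun g hle => by
      by_contra h
      haveI : (RingHom.ker (tr x₂ g : B →+* K)).IsPrime := RingHom.ker_isPrime _
      refine (Ideal.IsIntegral.comap_lt_comap (R := GLin.invariants R A B) (lt_of_le_of_ne hle h)).ne ?_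
      ext c
      change tr x₂ g c.1 = 0 ↔ x₁ c.1 = 0
      rw [tr_invariant x₂ g c.2, hx c.1 c.2])
  set P := charP B F₀ f with hP
  have hcoef : P.map (x₂ : B →+* K) = P.map (x₁ : B →+* K) := by
    ext i
    rw [coeff_map, coeff_map, hP]
    exact (hx _ (charP_coeff_mem B F₀ f i)).symm
  set z : K ⊗[R] A := Algebra.TensorProduct.map x₂ (AlgHom.id R A) (GLin.coactAlgHom R A B f) with hz
  have hroot : ((bcFrame F₀ K).cp z).eval (x₁ f) = 0 := by
    rw [hz, bcFrame_cp_map, ← charP, ← hP, hcoef, eval_map, show x₁ f = (x₁ : B →+* K) f from rfl, eval₂_at_apply,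
      eval_charP, map_zero]
  let σ : CommRingCat.of K ⟶ CommRingCat.of (K ⊗[R] A) :=
    CommRingCat.ofHom Algebra.TensorProduct.includeLeftRingHom
  have hfin : σ.hom.Finite := (RingHom.finite_algebraMap (A := K) (B := K ⊗[R] A)).mpr inferInstance
  obtain ⟨r, hr, hrz⟩ := GrpdQ.exists_point_of_root (σ := σ) (bcFrame F₀ K) hfin (RingHom.id K) z hf₀
    (by simpa using hroot)
  let rK : K ⊗[R] A →ₐ[K] K := { r with commutes' := fun c => RingHom.congr_fun hr c }
  let g : A →ₐ[R] K := (rK.restrictScalars R).comp Algebra.TensorProduct.includeRight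
  refine hf g ?_
  show Algebra.TensorProduct.lift x₂ g (fun _ _ => .all _ _) (GLin.coactAlgHom R A B f) = x₁ f
  refine Eq.trans ?_ hrz
  rw [hz]
  show _ = rK (Algebra.TensorProduct.map x₂ (AlgHom.id R A) (GLin.coactAlgHom R A B f))
  generalize GLin.coactAlgHom R A B f = w
  induction w with
  | zero => simp
  | add y z hy hz => simp only [map_add, hy, hz]
  | tmul b a =>
    have e : (x₂ b) ⊗ₜ[R] a = algebraMap K (K ⊗[R] A) (x₂ b) * ((1 : K) ⊗ₜ a) := by
      simp [Algebra.TensorProduct.algebraMap_apply]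
    rw [Algebra.TensorProduct.lift_tmul, Algebra.TensorProduct.map_tmul, AlgHom.id_apply, e, map_mul,
      AlgHom.commutes]
    rfl

/-- Two geometric points are translates of one another when the invariants are the base ring. -/
theorem exists_tr_eq [Module.Finite R A] [Module.Projective R A]
    (hC : Function.Bijective (algebraMap R (GLin.invariants R A B)))
    {K : Type u} [Field K] [IsAlgClosed K] [Algebra R K] (x₁ x₂ : B →ₐ[R] K) :
    ∃ g : A →ₐ[R] K, tr x₂ g = x₁ := by
  refine exists_tr_eq' x₁ x₂ fun c hc => ?_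
  obtain ⟨r, rfl⟩ := mem_range_of_invariant hC hc
  simp

end Main

end Groth.Agent.CoactPts
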