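import Groth.Agent.CoactPts.Stab
import Mathlib.RingTheory.Support
import Mathlib.RingTheory.Localization.Away.Basic

/-!
# The locus of invariants over which the action is free
-/

set_option autoImplicit false
set_option linter.style.haveILetI false
universe u

noncomputable section

open CategoryTheory MonoidalCategory CartesianMonoidalCategory MonObj AlgebraicGeometry
open CoactBr
open scoped TensorProduct

namespace Groth.Agent.CoactPts

variable {R A B : Type u} [CommRing R] [CommRing A] [HopfAlgebra R A] [CommRing B] [Algebra R B]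
  [HopfRep.Comod R A B] [GLin.IsCoactAlg R A B]

variable (R A B) in
/-- the ideal of the stabiliser -/
def stabI : Ideal (B ⊗[R] A) := Ideal.span (Set.range fun b => GLin.coactAlgHom R A B b - b ⊗ₜ[R] (1 : A))

/-- an invariant function off the point of the invariants which kills the nontrivial part of the stabiliser -/
theorem exists_killer [Module.Finite R A] [Module.Projective R A]
    {K : Type u} [Field K] [Algebra R K] (x : B →ₐ[R] K)
    (h₁ : ∀ (T : Over (Spec (CommRingCat.of R))) (h : T ⟶ sp R K) (g : T ⟶ sp R A),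
      lift g (h ≫ pt x) ≫ (action R A B).act = h ≫ pt x → g = 1) :
    ∃ f : GLin.invariants R A B, x f ≠ 0 ∧ ∀ a : A,
      ((f : B) ⊗ₜ[R] (1 : A)) * ((1 : B) ⊗ₜ[R] a - algebraMap R (B ⊗[R] A) (Coalgebra.counit (R := R) a)) ∈
        stabI R A B := by
  classical
  haveI := isIntegral_invariants (R := R) (A := A) (B := B)
  let M := (B ⊗[R] A) ⧸ stabI R A B
  let N := M ⧸ LinearMap.range (Algebra.linearMap B M)
  let C := GLin.invariants R A B
  let p : Ideal C := RingHom.ker ((x : B →+* K).comp (algebraMap C B))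
  haveI : p.IsPrime := RingHom.ker_isPrime _
  have hne : ¬ ((Module.annihilator B N).comap (algebraMap C B) ≤ p) := by
    intro hle
    obtain ⟨P, hP, hPprime, hPp⟩ := Ideal.exists_ideal_over_prime_of_isIntegral p (Module.annihilator B N) hle
    haveI := hPprime
    let κ := P.ResidueField
    let x₂ : B →ₐ[R] κ := IsScalarTower.toAlgHom R B κ
    letI : Algebra C K := ((x : B →+* K).comp (algebraMap C B)).toAlgebra
    letI : Algebra C κ := ((algebraMap B κ).comp (algebraMap C B)).toAlgebra
    have hq : RingHom.ker (algebraMap C K) = RingHom.ker (algebraMap C κ) := by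
      change p = RingHom.ker ((algebraMap B κ).comp (algebraMap C B))
      rw [← hPp, ← RingHom.comap_ker, Ideal.ker_algebraMap_residueField]
    obtain ⟨Ω, _, _, _, ⟨j₁⟩, ⟨j₂⟩⟩ := exists_common_algClosed hq
    letI : Algebra R Ω := ((algebraMap C Ω).comp (algebraMap R C)).toAlgebra
    have hi₁ : ∀ r, (j₁ : K →+* Ω) (algebraMap R K r) = algebraMap R Ω r := fun r =>
      (congrArg j₁ (x.commutes r).symm).trans (j₁.commutes (algebraMap R C r))
    have hi₂ : ∀ r, (j₂ : κ →+* Ω) (algebraMap R κ r) = algebraMap R Ω r := fun r =>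
      (congrArg j₂ (IsScalarTower.algebraMap_apply R B κ r)).trans (j₂.commutes (algebraMap R C r))
    let i₁ : K →ₐ[R] Ω := { (j₁ : K →+* Ω) with commutes' := hi₁ }
    let i₂ : κ →ₐ[R] Ω := { (j₂ : κ →+* Ω) with commutes' := hi₂ }
    have hx : ∀ c ∈ GLin.invariants R A B, i₂ (x₂ c) = i₁ (x c) := fun c hc =>
      (j₂.commutes ⟨c, hc⟩).trans (j₁.commutes ⟨c, hc⟩).symm
    have htriv := inertia_trivial_transfer i₁ i₂ x x₂ hx h₁
    have hsupp : (⟨P, hPprime⟩ : PrimeSpectrum B) ∈ Module.support B N := by
      rw [Module.support_eq_zeroLocus]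
      exact hP
    refine not_nontrivial_iff_subsingleton.2 ?_ ((Module.mem_support_iff_nontrivial_residueField_tensorProduct (⟨P, hPprime⟩ : PrimeSpectrum B)).1 hsupp)
    let L := κ ⊗[B] M
    let γ : A →ₐ[R] L := ((Algebra.TensorProduct.includeRight : M →ₐ[B] L).restrictScalars R).comp
      ((Ideal.Quotient.mkₐ R (stabI R A B)).comp Algebra.TensorProduct.includeRight)
    let i : κ →ₐ[R] L := (Algebra.TensorProduct.includeLeft : κ →ₐ[R] L)
    let q : B ⊗[R] A →ₐ[B] L := (Algebra.TensorProduct.includeRight : M →ₐ[B] L).comp (Ideal.Quotient.mkₐ B _)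
    have hqb : ∀ b : B, q (b ⊗ₜ[R] (1 : A)) = i (x₂ b) := fun b =>
      (q.commutes b).trans (Algebra.TensorProduct.algebraMap_apply b)
    have htr : tr (L := L) (i.comp x₂) γ = i.comp x₂ := by
      ext b
      show Algebra.TensorProduct.lift (i.comp x₂) γ (fun _ _ => mul_comm (G := L) _ _) (GLin.coactAlgHom R A B b) = i (x₂ b)
      rw [show Algebra.TensorProduct.lift (i.comp x₂) γ (fun _ _ => mul_comm (G := L) _ _) = q.restrictScalars R from
        Algebra.TensorProduct.ext' fun b a => by
          show i (x₂ b) * q (1 ⊗ₜ a) = q (b ⊗ₜ a)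
          rw [← hqb, ← map_mul, Algebra.TensorProduct.tmul_mul_tmul, _root_.mul_one, _root_.one_mul], ← hqb]
      show q _ = q _
      exact congrArg (fun m : M => (Algebra.TensorProduct.includeRight : M →ₐ[B] L) m)
        (Ideal.Quotient.eq.2 (Ideal.subset_span ⟨b, rfl⟩))
    have hγ := htriv (sp R L) (pt i) (pt γ)⁻¹ (by
      rw [lift_action_act, inv_inv, ← pt_comp, lift_pt_ract]
      exact congrArg pt htr)
    rw [inv_eq_one, one_eq_pt] at hγ
    have hγ' := AlgHom.congr_fun (pt_injective hγ)
    have hsurj := LinearMap.lTensor_surjective κ (LinearMap.range (Algebra.linearMap B M)).mkQ_surjective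
    refine subsingleton_of_forall_eq 0 fun y => ?_
    obtain ⟨z, rfl⟩ := hsurj y
    induction z with
    | zero => simp
    | add z z' hz hz' => rw [map_add, hz, hz', add_zero]
    | tmul c m =>
      obtain ⟨m, rfl⟩ := Ideal.Quotient.mk_surjective m
      induction m with
      | zero => simp
      | add m m' hm hm' => rw [map_add, TensorProduct.tmul_add, map_add, hm, hm', add_zero]
      | tmul b a =>
        have e : (c ⊗ₜ[B] Ideal.Quotient.mk (stabI R A B) (b ⊗ₜ[R] a) : L) =
            (c ⊗ₜ[B] Ideal.Quotient.mk (stabI R A B)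
              ((b ⊗ₜ[R] (1 : A)) * algebraMap R (B ⊗[R] A) (Coalgebra.counit (R := R) a))) := by
          have h' : ∀ z : B ⊗[R] A, c ⊗ₜ[B] Ideal.Quotient.mk (stabI R A B) z = (c ⊗ₜ[B] (1 : M)) * q z := fun z => by
            show _ = (c ⊗ₜ[B] (1 : M)) * ((1 : κ) ⊗ₜ[B] Ideal.Quotient.mk _ z)
            rw [Algebra.TensorProduct.tmul_mul_tmul, _root_.mul_one, _root_.one_mul]
          rw [h', h', map_mul q, show q (b ⊗ₜ[R] a) = q (b ⊗ₜ[R] 1) * γ a by
            show _ = _ * q (1 ⊗ₜ a)
            rw [← map_mul, Algebra.TensorProduct.tmul_mul_tmul, _root_.mul_one, _root_.one_mul], hγ' a]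
          congr 2
          exact ((q.restrictScalars R).commutes _).symm
        rw [e, LinearMap.lTensor_tmul, Submodule.mkQ_apply,
          (Submodule.Quotient.mk_eq_zero _).2 (show _ ∈ LinearMap.range (Algebra.linearMap B M) from
            ⟨b * algebraMap R B (Coalgebra.counit (R := R) a), congrArg (Ideal.Quotient.mk (stabI R A B))
              (by simp [Algebra.TensorProduct.algebraMap_apply])⟩), TensorProduct.tmul_zero]
  obtain ⟨f, hf, hfp⟩ := SetLike.not_le_iff_exists.1 hne
  refine ⟨f, hfp, fun a => ?_⟩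
  have h0 : (f : B) • (LinearMap.range (Algebra.linearMap B M)).mkQ (Ideal.Quotient.mk _ ((1 : B) ⊗ₜ[R] a)) = 0 :=
    Module.mem_annihilator.1 hf _
  rw [← map_smul, Submodule.mkQ_apply, Submodule.Quotient.mk_eq_zero] at h0
  obtain ⟨b, hb⟩ := h0
  have he : ∀ b : B, Algebra.TensorProduct.lift (AlgHom.id B B) ((Algebra.ofId R B).comp (Bialgebra.counitAlgHom R A))
      (fun _ _ => Commute.all _ _) (GLin.coactAlgHom R A B b - b ⊗ₜ[R] (1 : A)) = 0 := by
    intro b
    rw [map_sub, sub_eq_zero]
    have h := congrArg (TensorProduct.rid R B)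
      (LinearMap.congr_fun (HopfRep.Comod.counit_comp (k := R) (A := A) (V := B)) b)
    simp only [LinearMap.comp_apply] at h
    refine Eq.trans ?_ ((h.trans (by simp : _ = b)).trans (by simp))
    rw [GLin.coactAlgHom_apply]
    generalize HopfRep.Comod.coact (k := R) (A := A) b = z
    induction z with
    | zero => simp
    | tmul p q => simp [Algebra.ofId_apply, Algebra.smul_def, mul_comm]
    | add y z hy hz => simp only [map_add, hy, hz]
  have hJ : stabI R A B ≤ RingHom.ker (Algebra.TensorProduct.lift (AlgHom.id B B)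
      ((Algebra.ofId R B).comp (Bialgebra.counitAlgHom R A)) (fun _ _ => Commute.all _ _)) := by
    rw [stabI, Ideal.span_le]
    rintro _ ⟨b, rfl⟩
    exact he b
  have hdiff : (b ⊗ₜ[R] (1 : A)) - (f : B) • ((1 : B) ⊗ₜ[R] a) ∈ stabI R A B := Ideal.Quotient.eq.1 hb
  have hb' : b = (f : B) * algebraMap R B (Coalgebra.counit (R := R) a) := by
    have h := hJ hdiff
    simpa [RingHom.mem_ker, sub_eq_zero, Algebra.ofId_apply, TensorProduct.smul_tmul'] using h
  have := (stabI R A B).neg_mem hdiff
  convert this using 1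
  rw [hb', neg_sub, mul_sub]
  congr 1 <;> simp [Algebra.TensorProduct.algebraMap_apply, TensorProduct.smul_tmul']

theorem free_iff_exists_flat_lfp [Module.Finite R A] [Module.Projective R A]
    {K : Type u} [Field K] [Algebra R K] (x : B →ₐ[R] K) :
    (∀ (T : Over (Spec (CommRingCat.of R))) (h : T ⟶ sp R K) (g : T ⟶ sp R A),
        lift g (h ≫ pt x) ≫ (action R A B).act = h ≫ pt x → g = 1) ↔
      ∃ (Y' : Scheme.{u}) (c : Y' ⟶ Spec (CommRingCat.of (GLin.invariants R A B))),
        Flat c ∧ LocallyOfFinitePresentation c ∧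
        (∃ y' : Y', c.base y' =
          (Spec.map (CommRingCat.ofHom (x.toRingHom.comp (GLin.invariants R A B).val.toRingHom))).base
            (IsLocalRing.closedPoint K)) ∧
        ∀ (T : Over (Spec (CommRingCat.of R))) (ζ : T ⟶ sp R B),
          (∃ t : T.left ⟶ Y', t ≫ c = ζ.left ≫ Spec.map (CommRingCat.ofHom (GLin.invariants R A B).val.toRingHom)) →
          ∀ g : T ⟶ sp R A, lift g ζ ≫ (action R A B).act = ζ → g = 1 := by
  let C := GLin.invariants R A B
  constructor
  · intro h₁
    obtain ⟨f, hf, hkill⟩ := exists_killer x h₁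
    let Cf := Localization.Away f
    refine ⟨Spec (CommRingCat.of Cf), Spec.map (CommRingCat.ofHom (algebraMap C Cf)), ?_, ?_, ?_, ?_⟩
    · rw [HasRingHomProperty.Spec_iff (P := @Flat)]
      exact RingHom.flat_algebraMap_iff.mpr (IsLocalization.flat Cf (Submonoid.powers f))
    · rw [HasRingHomProperty.Spec_iff (P := @LocallyOfFinitePresentation)]
      exact RingHom.finitePresentation_algebraMap.mpr (IsLocalization.Away.finitePresentation f)
    · have hu : IsUnit (((x : B →+* K).comp C.val.toRingHom) f) := isUnit_iff_ne_zero.2 hf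
      let xf : Cf →+* K := IsLocalization.Away.lift f hu
      refine ⟨(Spec.map (CommRingCat.ofHom xf)).base (IsLocalRing.closedPoint K), ?_⟩
      rw [← Scheme.Hom.comp_apply, ← Spec.map_comp, ← CommRingCat.ofHom_comp]
      rw [IsLocalization.Away.lift_comp]
      rfl
    · rintro T ζ ⟨t, ht⟩ g hg
      obtain ⟨L, _, _, c, hiso, hfac, hinj⟩ := exists_affine_factor T
      obtain ⟨z, rfl⟩ := hfac B ζ
      obtain ⟨γ, hγ⟩ := hfac A g⁻¹
      rw [lift_action_act, hγ, ← comp_tr] at hg
      have hz := hinj B _ _ hg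
      have hle : stabI R A B ≤ RingHom.ker (Algebra.TensorProduct.lift z γ fun _ _ => .all _ _) := by
        rw [stabI, Ideal.span_le]
        rintro _ ⟨b, rfl⟩
        rw [SetLike.mem_coe, RingHom.mem_ker, map_sub, sub_eq_zero]
        exact (AlgHom.congr_fun hz b).trans (by simp)
      let ιC : C →+* Cf := algebraMap C Cf
      let Ψ : C →+* L := z.toRingHom.comp C.val.toRingHom
      let cl : T.left ⟶ Spec (CommRingCat.of L) := c.left
      haveI : IsIso cl.appTop := hiso
      have ht' : t ≫ Spec.map (CommRingCat.ofHom ιC) = cl ≫ Spec.map (CommRingCat.ofHom Ψ) := by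
        refine ht.trans ?_
        show (cl ≫ Spec.map (CommRingCat.ofHom z.toRingHom)) ≫ Spec.map (CommRingCat.ofHom C.val.toRingHom) = _
        rw [Category.assoc, ← Spec.map_comp, ← CommRingCat.ofHom_comp]
      have h2 := congrArg (fun m => (Scheme.ΓSpecIso (CommRingCat.of C)).inv ≫ Scheme.Hom.appTop m) ht'
      simp only [Scheme.Hom.comp_appTop] at h2
      rw [← Scheme.ΓSpecIso_inv_naturality_assoc, ← Scheme.ΓSpecIso_inv_naturality_assoc] at h2
      have hunit : IsUnit (z (f : B)) := by
        have h4 := RingHom.congr_fun (congrArg CommRingCat.Hom.hom h2) f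
        have h5 : IsUnit (((Scheme.ΓSpecIso (CommRingCat.of L)).inv ≫ cl.appTop).hom (Ψ f)) := by
          have := (IsLocalization.Away.algebraMap_isUnit (S := Cf) f).map
            ((Scheme.ΓSpecIso (CommRingCat.of Cf)).inv ≫ t.appTop).hom
          exact h4 ▸ this
        have := h5.map (inv ((Scheme.ΓSpecIso (CommRingCat.of L)).inv ≫ cl.appTop)).hom
        rwa [← RingHom.comp_apply, ← CommRingCat.hom_comp, IsIso.hom_inv_id] at this
      have hγ1 : γ = (Algebra.ofId R L).comp (Bialgebra.counitAlgHom R A) := by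
        ext a
        have h := hle (hkill a)
        rw [RingHom.mem_ker, map_mul, map_sub, Algebra.TensorProduct.lift_tmul, Algebra.TensorProduct.lift_tmul,
          map_one, map_one, _root_.mul_one, _root_.one_mul, AlgHom.commutes] at h
        exact sub_eq_zero.1 (hunit.mul_right_eq_zero.1 h)
      rw [hγ1, ← one_eq_pt, MonObj.comp_one, inv_eq_one] at hγ
      exact hγ
  · rintro ⟨Y', c, -, -, ⟨y', hy'⟩, hfree⟩ T h g hg
    obtain ⟨q, -, -⟩ := Scheme.Pullback.exists_preimage_pullback (f := c)
      (g := Spec.map (CommRingCat.ofHom (x.toRingHom.comp C.val.toRingHom))) y' (IsLocalRing.closedPoint K) hy'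
    let P := Limits.pullback c (Spec.map (CommRingCat.ofHom (x.toRingHom.comp C.val.toRingHom)))
    let Ω := P.residueField q
    obtain ⟨φ, hφ⟩ := Spec.map_surjective (P.fromSpecResidueField q ≫ Limits.pullback.snd _ _)
    letI : Algebra R Ω := (φ.hom.comp (algebraMap R K)).toAlgebra
    let i : K →ₐ[R] Ω := { φ.hom with commutes' := fun r => rfl }
    obtain ⟨T', p, w, _, hw⟩ := exists_epi_field i h
    apply trivial_of_epi p
    let wl : T'.left ⟶ Spec (CommRingCat.of Ω) := w.left
    let hl : T.left ⟶ Spec (CommRingCat.of K) := h.left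
    refine hfree T' (p ≫ h ≫ pt x) ⟨wl ≫ P.fromSpecResidueField q ≫ Limits.pullback.fst _ _, ?_⟩ (p ≫ g)
      (by rw [← comp_lift, Category.assoc, hg])
    have hw' : wl ≫ Spec.map φ = p.left ≫ hl := congrArg CommaMorphism.left hw
    show _ = (p.left ≫ hl ≫ Spec.map (CommRingCat.ofHom x.toRingHom)) ≫ Spec.map _
    rw [Category.assoc, Category.assoc, Limits.pullback.condition, ← Category.assoc (P.fromSpecResidueField q),
      ← hφ, ← Category.assoc, hw']
    simp only [Category.assoc, ← Spec.map_comp, ← CommRingCat.ofHom_comp]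

end Groth.Agent.CoactPts
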