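import Groth.Agent.CoactPts.Conj
import Mathlib.AlgebraicGeometry.Morphisms.Flat
import Mathlib.FieldTheory.IsAlgClosed.AlgebraicClosure

/-!
# Stabilisers of points of a coaction of a finite locally free group scheme
-/

set_option autoImplicit false
set_option linter.style.haveILetI false
universe u

noncomputable section

open CategoryTheory MonoidalCategory CartesianMonoidalCategory MonObj AlgebraicGeometry
open CoactBr
open scoped TensorProduct

namespace Groth.Agent.CoactPts

variable {R A B : Type u} [CommRing R] [CommRing A] [HopfAlgebra R A] [CommRing B] [Algebra R B]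
  [HopfRep.Comod R A B] [GLin.IsCoactAlg R A B]

/-- the stabiliser of a translate is conjugate -/
theorem conj_iff {T : Over (Spec (CommRingCat.of R))} (v : T ⟶ sp R B) (γ k : T ⟶ sp R A) :
    lift k (lift v γ ≫ ract R A B) ≫ (action R A B).act = lift v γ ≫ ract R A B ↔
      lift (γ * k * γ⁻¹) v ≫ (action R A B).act = v := by
  rw [lift_action_act k (lift v γ ≫ ract R A B), lift_action_act (γ * k * γ⁻¹) v, lift_ract_ract v γ k⁻¹]
  constructor <;> intro h
  · have h' := congrArg (fun w => lift w γ⁻¹ ≫ ract R A B) h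
    simp only [lift_ract_ract, mul_inv_cancel, lift_one_ract] at h'
    rw [mul_inv_rev, mul_inv_rev, inv_inv, ← _root_.mul_assoc]
    exact h'
  · have h' := congrArg (fun w => lift w γ ≫ ract R A B) h
    simp only [lift_ract_ract] at h'
    refine Eq.trans ?_ h'
    congr 2
    group

theorem comp_tr {K : Type u} [CommRing K] [Algebra R K] {T : Over (Spec (CommRingCat.of R))} (h : T ⟶ sp R K)
    (x : B →ₐ[R] K) (g : A →ₐ[R] K) :
    h ≫ pt (tr x g) = lift (h ≫ pt x) (h ≫ pt g) ≫ ract R A B := by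
  rw [tr, ← lift_pt_ract, ← Category.assoc, comp_lift]

theorem exists_conj' [Module.Finite R A] [Module.Projective R A]
    {K : Type u} [Field K] [IsAlgClosed K] [Algebra R K] (x₁ x₂ : B →ₐ[R] K)
    (hx : ∀ c ∈ GLin.invariants R A B, x₁ c = x₂ c) :
    ∃ g : sp R K ⟶ sp R A, ∀ (T : Over (Spec (CommRingCat.of R))) (h : T ⟶ sp R K) (k : T ⟶ sp R A),
      lift k (h ≫ pt x₁) ≫ (action R A B).act = h ≫ pt x₁ ↔
        lift ((h ≫ g)⁻¹ * k * (h ≫ g)) (h ≫ pt x₂) ≫ (action R A B).act = h ≫ pt x₂ := by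
  obtain ⟨g, hg⟩ := exists_tr_eq' x₁ x₂ hx
  refine ⟨(pt g)⁻¹, fun T h k => ?_⟩
  rw [← hg, comp_tr, conj_iff, GrpObj.comp_inv, inv_inv]

theorem exists_conj [Module.Finite R A] [Module.Projective R A]
    (hC : Function.Bijective (algebraMap R (GLin.invariants R A B)))
    {K : Type u} [Field K] [IsAlgClosed K] [Algebra R K] (x₁ x₂ : B →ₐ[R] K) :
    ∃ g : sp R K ⟶ sp R A, ∀ (T : Over (Spec (CommRingCat.of R))) (h : T ⟶ sp R K) (k : T ⟶ sp R A),
      lift k (h ≫ pt x₁) ≫ (action R A B).act = h ≫ pt x₁ ↔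
        lift ((h ≫ g)⁻¹ * k * (h ≫ g)) (h ≫ pt x₂) ≫ (action R A B).act = h ≫ pt x₂ := by
  refine exists_conj' x₁ x₂ fun c hc => ?_
  obtain ⟨r, rfl⟩ := mem_range_of_invariant hC hc
  simp

theorem trivial_of_epi {T T' : Over (Spec (CommRingCat.of R))} (p : T' ⟶ T) [Epi p.left] {g : T ⟶ sp R A}
    (h : p ≫ g = 1) : g = 1 := by
  haveI : Epi p := (Over.forget _).epi_of_epi_map (inferInstanceAs (Epi p.left))
  rw [← cancel_epi p, h, MonObj.comp_one]

theorem exists_common_algClosed {K₁ K₂ : Type u} [Field K₁] [Algebra R K₁] [Field K₂] [Algebra R K₂]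
    (hq : RingHom.ker (algebraMap R K₁) = RingHom.ker (algebraMap R K₂)) :
    ∃ (Ω : Type u) (_ : Field Ω) (_ : IsAlgClosed Ω) (_ : Algebra R Ω),
      Nonempty (K₁ →ₐ[R] Ω) ∧ Nonempty (K₂ →ₐ[R] Ω) := by
  set q := RingHom.ker (algebraMap R K₁) with hqdef
  haveI : q.IsPrime := RingHom.ker_isPrime _
  let F := FractionRing (R ⧸ q)
  have hinj₁ : Function.Injective (Ideal.Quotient.lift q (algebraMap R K₁) fun a ha => ha) :=
    RingHom.lift_injective_of_ker_le_ideal _ _ le_rfl
  have hinj₂ : Function.Injective (Ideal.Quotient.lift q (algebraMap R K₂) fun a ha => by rwa [hq] at ha) :=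
    RingHom.lift_injective_of_ker_le_ideal _ _ hq.ge
  letI : Algebra F K₁ := (IsFractionRing.lift (K := F) hinj₁).toAlgebra
  letI : Algebra F K₂ := (IsFractionRing.lift (K := F) hinj₂).toAlgebra
  haveI : IsScalarTower R F K₁ := IsScalarTower.of_algebraMap_eq fun r => by
    show algebraMap R K₁ r = IsFractionRing.lift hinj₁ (algebraMap R F r)
    rw [IsScalarTower.algebraMap_apply R (R ⧸ q) F, IsFractionRing.lift_algebraMap]
    rfl
  haveI : IsScalarTower R F K₂ := IsScalarTower.of_algebraMap_eq fun r => by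
    show algebraMap R K₂ r = IsFractionRing.lift hinj₂ (algebraMap R F r)
    rw [IsScalarTower.algebraMap_apply R (R ⧸ q) F, IsFractionRing.lift_algebraMap]
    rfl
  haveI : Nontrivial (K₁ ⊗[F] K₂) := inferInstance
  obtain ⟨m, hm⟩ := Ideal.exists_maximal (K₁ ⊗[F] K₂)
  letI : Field ((K₁ ⊗[F] K₂) ⧸ m) := Ideal.Quotient.field m
  let Ω := AlgebraicClosure ((K₁ ⊗[F] K₂) ⧸ m)
  let j : K₁ ⊗[F] K₂ →ₐ[F] Ω := (IsScalarTower.toAlgHom F _ Ω).comp (Ideal.Quotient.mkₐ F m)
  letI : Algebra R Ω := ((algebraMap F Ω).comp (algebraMap R F)).toAlgebra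
  letI : SMul R Ω := Algebra.toSMul
  haveI : IsScalarTower R F Ω := IsScalarTower.of_algebraMap_eq fun _ => rfl
  exact ⟨Ω, inferInstance, inferInstance, inferInstance,
    ⟨(j.comp Algebra.TensorProduct.includeLeft).restrictScalars R⟩,
    ⟨(j.comp Algebra.TensorProduct.includeRight).restrictScalars R⟩⟩

theorem exists_epi_field {T : Over (Spec (CommRingCat.of R))} {K Ω : Type u} [Field K] [Algebra R K] [Field Ω]
    [Algebra R Ω] (i : K →ₐ[R] Ω) (h : T ⟶ sp R K) :
    ∃ (T' : Over (Spec (CommRingCat.of R))) (p : T' ⟶ T) (w : T' ⟶ sp R Ω), Epi p.left ∧ w ≫ pt i = p ≫ h := by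
  let P := Limits.pullback h.left (pt i).left
  let p₁ : P ⟶ T.left := Limits.pullback.fst h.left (pt i).left
  let T' : Over (Spec (CommRingCat.of R)) := Over.mk (p₁ ≫ T.hom)
  let p : T' ⟶ T := Over.homMk p₁ rfl
  let w : T' ⟶ sp R Ω := Over.homMk (Limits.pullback.snd h.left (pt i).left) (by
    rw [← Over.w (pt i), ← Category.assoc, ← Limits.pullback.condition, Category.assoc, Over.w h]
    rfl)
  have hw : w ≫ pt i = p ≫ h := by
    ext
    exact Limits.pullback.condition.symm
  haveI : Flat (pt i).left := by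
    refine (HasRingHomProperty.Spec_iff (P := @Flat) (φ := CommRingCat.ofHom i.toRingHom)).mpr ?_
    letI := i.toRingHom.toAlgebra
    exact RingHom.flat_algebraMap_iff.mpr inferInstance
  haveI : Surjective (pt i).left := ⟨fun (y : PrimeSpectrum K) =>
    ⟨(IsLocalRing.closedPoint Ω : PrimeSpectrum Ω), @Subsingleton.elim (PrimeSpectrum K) _ _ _⟩⟩
  haveI : Epi p.left := Flat.epi_of_flat_of_surjective p₁
  exact ⟨T', p, w, inferInstance, hw⟩

theorem inertia_trivial_transfer [Module.Finite R A] [Module.Projective R A]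
    {K₁ K₂ Ω : Type u} [Field K₁] [Algebra R K₁] [Field K₂] [Algebra R K₂] [Field Ω] [IsAlgClosed Ω] [Algebra R Ω]
    (i₁ : K₁ →ₐ[R] Ω) (i₂ : K₂ →ₐ[R] Ω) (x₁ : B →ₐ[R] K₁) (x₂ : B →ₐ[R] K₂)
    (hx : ∀ c ∈ GLin.invariants R A B, i₂ (x₂ c) = i₁ (x₁ c))
    (h₁ : ∀ (T : Over (Spec (CommRingCat.of R))) (h : T ⟶ sp R K₁) (g : T ⟶ sp R A),
      lift g (h ≫ pt x₁) ≫ (action R A B).act = h ≫ pt x₁ → g = 1)
    (T : Over (Spec (CommRingCat.of R))) (h : T ⟶ sp R K₂) (g : T ⟶ sp R A)
    (hg : lift g (h ≫ pt x₂) ≫ (action R A B).act = h ≫ pt x₂) : g = 1 := by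
  obtain ⟨c, hc⟩ := exists_conj' (i₂.comp x₂) (i₁.comp x₁) hx
  obtain ⟨T', p, w, _, hw⟩ := exists_epi_field i₂ h
  apply trivial_of_epi p
  have hfix : lift (p ≫ g) (w ≫ pt (i₂.comp x₂)) ≫ (action R A B).act = w ≫ pt (i₂.comp x₂) := by
    rw [pt_comp, ← Category.assoc, hw, Category.assoc, ← comp_lift, Category.assoc, hg]
  have h2 := (hc T' w (p ≫ g)).1 hfix
  rw [pt_comp, ← Category.assoc] at h2
  have h3 := h₁ T' (w ≫ pt i₁) _ h2
  calc p ≫ g = (w ≫ c) * ((w ≫ c)⁻¹ * (p ≫ g) * (w ≫ c)) * (w ≫ c)⁻¹ := by group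
    _ = 1 := by rw [h3, _root_.mul_one, mul_inv_cancel]

theorem inertia_trivial_of_ker_eq [Module.Finite R A] [Module.Projective R A]
    (hC : Function.Bijective (algebraMap R (GLin.invariants R A B)))
    {K₁ K₂ : Type u} [Field K₁] [Algebra R K₁] [Field K₂] [Algebra R K₂]
    (hq : RingHom.ker (algebraMap R K₁) = RingHom.ker (algebraMap R K₂))
    (x₁ : B →ₐ[R] K₁) (x₂ : B →ₐ[R] K₂)
    (h₁ : ∀ (T : Over (Spec (CommRingCat.of R))) (h : T ⟶ sp R K₁) (g : T ⟶ sp R A),
      lift g (h ≫ pt x₁) ≫ (action R A B).act = h ≫ pt x₁ → g = 1)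
    (T : Over (Spec (CommRingCat.of R))) (h : T ⟶ sp R K₂) (g : T ⟶ sp R A)
    (hg : lift g (h ≫ pt x₂) ≫ (action R A B).act = h ≫ pt x₂) : g = 1 := by
  obtain ⟨Ω, _, _, _, ⟨i₁⟩, ⟨i₂⟩⟩ := exists_common_algClosed hq
  refine inertia_trivial_transfer i₁ i₂ x₁ x₂ (fun c hc => ?_) h₁ T h g hg
  obtain ⟨r, rfl⟩ := mem_range_of_invariant hC hc
  simp

/-- every scheme over the base has an affine one through which all its points of affine schemes factor -/
theorem exists_affine_factor (T : Over (Spec (CommRingCat.of R))) :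
    ∃ (L : Type u) (_ : CommRing L) (_ : Algebra R L) (c : T ⟶ sp R L),
      IsIso c.left.appTop ∧
      (∀ (C : Type u) [CommRing C] [Algebra R C] (ζ : T ⟶ sp R C), ∃ φ : C →ₐ[R] L, ζ = c ≫ pt φ) ∧
      ∀ (C : Type u) [CommRing C] [Algebra R C] (φ ψ : C →ₐ[R] L), c ≫ pt φ = c ≫ pt ψ → φ = ψ := by
  let α : R →+* Γ(T.left, ⊤) := ((Scheme.ΓSpecIso (CommRingCat.of R)).inv ≫ T.hom.appTop).hom
  letI : Algebra R Γ(T.left, ⊤) := α.toAlgebra
  have hα : CommRingCat.ofHom (algebraMap R Γ(T.left, ⊤)) = (Scheme.ΓSpecIso (CommRingCat.of R)).inv ≫ T.hom.appTop := rfl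
  have hfac : ∀ {C : CommRingCat.{u}} (f : T.left ⟶ Spec C),
      T.left.toSpecΓ ≫ Spec.map ((Scheme.ΓSpecIso C).inv ≫ f.appTop) = f := fun {C} f => by
    rw [Spec.map_comp, ← Scheme.toSpecΓ_naturality_assoc, toSpecΓ_SpecMap_ΓSpecIso_inv, Category.comp_id]
  let c : T ⟶ sp R Γ(T.left, ⊤) := Over.homMk T.left.toSpecΓ (by
    show T.left.toSpecΓ ≫ Spec.map (CommRingCat.ofHom (algebraMap R Γ(T.left, ⊤))) = T.hom
    rw [hα, hfac])
  haveI : IsIso c.left.appTop := by
    show IsIso T.left.toSpecΓ.appTop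
    rw [Scheme.toSpecΓ_appTop]
    infer_instance
  refine ⟨Γ(T.left, ⊤), inferInstance, inferInstance, c, inferInstance, fun C _ _ ζ => ?_, fun C _ _ φ ψ e => ?_⟩
  · let f := (Scheme.ΓSpecIso (CommRingCat.of C)).inv ≫ ζ.left.appTop
    have hf : CommRingCat.ofHom (algebraMap R C) ≫ f = CommRingCat.ofHom (algebraMap R Γ(T.left, ⊤)) := by
      let ζl : T.left ⟶ Spec (CommRingCat.of C) := ζ.left
      show _ ≫ (Scheme.ΓSpecIso (CommRingCat.of C)).inv ≫ ζl.appTop = _
      rw [hα, ← Category.assoc, Scheme.ΓSpecIso_inv_naturality, Category.assoc, ← Scheme.Hom.comp_appTop,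
        show ζl ≫ Spec.map (CommRingCat.ofHom (algebraMap R C)) = T.hom from Over.w ζ]
    refine ⟨{ f.hom with commutes' := fun r => RingHom.congr_fun (congrArg CommRingCat.Hom.hom hf) r }, ?_⟩
    ext : 1
    exact (hfac ζ.left).symm
  · have e' : T.left.toSpecΓ ≫ Spec.map (CommRingCat.ofHom φ.toRingHom) =
        T.left.toSpecΓ ≫ Spec.map (CommRingCat.ofHom ψ.toRingHom) := congrArg CommaMorphism.left e
    have e'' := congrArg (fun f => (Scheme.ΓSpecIso (CommRingCat.of C)).inv ≫ Scheme.Hom.appTop f) e'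
    simp only [Scheme.Hom.comp_appTop, Scheme.toSpecΓ_appTop] at e''
    rw [← Scheme.ΓSpecIso_inv_naturality_assoc, ← Scheme.ΓSpecIso_inv_naturality_assoc, Iso.inv_hom_id,
      Category.comp_id, Category.comp_id] at e''
    exact AlgHom.coe_ringHom_injective (congrArg CommRingCat.Hom.hom e'')

/-- For a local base the action is free once the stabiliser of one closed point is trivial. -/
theorem free_of_closed_point [IsLocalRing R] [Module.Finite R A] [Module.Flat R A]
    (hC : Function.Bijective (algebraMap R (GLin.invariants R A B)))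
    {K : Type u} [Field K] [Algebra R K] (hK : RingHom.ker (algebraMap R K) = IsLocalRing.maximalIdeal R)
    (x : B →ₐ[R] K)
    (h₁ : ∀ (T : Over (Spec (CommRingCat.of R))) (h : T ⟶ sp R K) (g : T ⟶ sp R A),
      lift g (h ≫ pt x) ≫ (action R A B).act = h ≫ pt x → g = 1)
    (T : Over (Spec (CommRingCat.of R))) (ζ : T ⟶ sp R B) (g : T ⟶ sp R A)
    (hg : lift g ζ ≫ (action R A B).act = ζ) : g = 1 := by
  haveI : Module.Free R A := Module.free_of_flat_of_isLocalRing
  haveI : Algebra.IsIntegral R B := isIntegral_of_bijective hC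
  set ρ := GLin.coactAlgHom R A B
  let J : Ideal (B ⊗[R] A) := Ideal.span (Set.range fun b => ρ b - b ⊗ₜ[R] (1 : A))
  -- the key computation: modulo `J` the group coordinate is trivial
  have key : ∀ a : A, (1 : B) ⊗ₜ[R] a - algebraMap R (B ⊗[R] A) (Coalgebra.counit (R := R) a) ∈ J := by
    let N := ((B ⊗[R] A) ⧸ J) ⧸ LinearMap.range (Algebra.linearMap B ((B ⊗[R] A) ⧸ J))
    have hN : Subsingleton N := by
      by_contra hN
      rw [not_subsingleton_iff_nontrivial] at hN
      obtain ⟨m, hm, hmax⟩ : ∃ m : Ideal B, m.IsMaximal ∧ Module.annihilator B N ≤ m :=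
        Ideal.exists_le_maximal _ fun h => by
          obtain ⟨y, hy⟩ := exists_ne (0 : N)
          have h1 : (1 : B) ∈ Module.annihilator B N := h ▸ trivial
          exact hy (by simpa using Module.mem_annihilator.1 h1 y)
      have hmN : m • (⊤ : Submodule B N) = ⊤ := by
        suffices ∀ y : N, y ∈ m • (⊤ : Submodule B N) from eq_top_iff.2 fun y _ => this y
        intro y
        letI : Field (B ⧸ m) := Ideal.Quotient.field m
        let x₂ : B →ₐ[R] B ⧸ m := Ideal.Quotient.mkₐ R m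
        have hq : RingHom.ker (algebraMap R K) = RingHom.ker (algebraMap R (B ⧸ m)) := by
          haveI : (m.comap (algebraMap R B)).IsMaximal := Ideal.isMaximal_comap_of_isIntegral_of_isMaximal m
          rw [hK, ← IsLocalRing.eq_maximalIdeal ‹(m.comap (algebraMap R B)).IsMaximal›]
          ext r
          rw [Ideal.mem_comap, RingHom.mem_ker]
          exact Ideal.Quotient.eq_zero_iff_mem.symm
        let I : Ideal (B ⊗[R] A) := J ⊔ m.map (algebraMap B (B ⊗[R] A))
        let L := (B ⊗[R] A) ⧸ I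
        let i : B ⧸ m →ₐ[R] L := Ideal.Quotient.liftₐ m
          ((Ideal.Quotient.mkₐ R I).comp Algebra.TensorProduct.includeLeft)
          fun b hb => Ideal.Quotient.eq_zero_iff_mem.2 (Ideal.mem_sup_right (Ideal.mem_map_of_mem _ hb))
        let γ : A →ₐ[R] L := (Ideal.Quotient.mkₐ R I).comp Algebra.TensorProduct.includeRight
        have htr : tr (i.comp x₂) γ = i.comp x₂ := by
          ext b
          show Algebra.TensorProduct.lift (i.comp x₂) γ (fun _ _ => .all _ _) (ρ b) = Ideal.Quotient.mkₐ R I (b ⊗ₜ 1)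
          rw [show Algebra.TensorProduct.lift (i.comp x₂) γ (fun _ _ => .all _ _) = Ideal.Quotient.mkₐ R I from
            Algebra.TensorProduct.ext' fun b a => by
              show Ideal.Quotient.mkₐ R I (b ⊗ₜ 1) * Ideal.Quotient.mkₐ R I (1 ⊗ₜ a) = _
              rw [← map_mul, Algebra.TensorProduct.tmul_mul_tmul, _root_.mul_one, _root_.one_mul]]
          exact Ideal.Quotient.eq.2 (Ideal.mem_sup_left (Ideal.subset_span ⟨b, rfl⟩))
        have h := inertia_trivial_of_ker_eq hC hq x x₂ h₁ (sp R L) (pt i) (pt γ)⁻¹ (by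
          rw [lift_action_act, inv_inv, ← pt_comp, lift_pt_ract]
          exact congrArg pt htr)
        rw [inv_eq_one, one_eq_pt] at h
        obtain ⟨y, rfl⟩ := Submodule.Quotient.mk_surjective _ y
        obtain ⟨z, rfl⟩ := Ideal.Quotient.mk_surjective y
        induction z with
        | zero => simp
        | add z z' hz hz' => simp only [map_add, Submodule.Quotient.mk_add]; exact add_mem hz hz'
        | tmul b a =>
          have hmem : (1 : B) ⊗ₜ[R] a - algebraMap R (B ⊗[R] A) (Coalgebra.counit (R := R) a) ∈ I :=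
            Ideal.Quotient.eq.1 (AlgHom.congr_fun (pt_injective h) a)
          have hmem' := Ideal.mem_map_of_mem (Ideal.Quotient.mk J) (I.mul_mem_left (b ⊗ₜ[R] (1 : A)) hmem)
          rw [Ideal.map_sup, Ideal.map_quotient_self, bot_sup_eq, Ideal.map_map,
            show (Ideal.Quotient.mk J).comp (algebraMap B (B ⊗[R] A)) = algebraMap B ((B ⊗[R] A) ⧸ J) from rfl,
            map_mul, map_sub, mul_sub, ← map_mul, ← map_mul] at hmem'
          have h' : Ideal.Quotient.mk J ((b ⊗ₜ[R] 1) * ((1 : B) ⊗ₜ a)) -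
              Ideal.Quotient.mk J ((b ⊗ₜ[R] 1) * algebraMap R _ (Coalgebra.counit (R := R) a)) ∈
              m • (⊤ : Submodule B ((B ⊗[R] A) ⧸ J)) := by
            rw [Ideal.smul_top_eq_map]
            exact hmem'
          have h'' := Submodule.mem_map_of_mem (f := (LinearMap.range (Algebra.linearMap B ((B ⊗[R] A) ⧸ J))).mkQ) h'
          rw [Submodule.map_smul'', Submodule.map_top, Submodule.range_mkQ] at h''
          rw [Algebra.TensorProduct.tmul_mul_tmul, _root_.mul_one, _root_.one_mul, map_sub] at h''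
          have hz : (LinearMap.range (Algebra.linearMap B ((B ⊗[R] A) ⧸ J))).mkQ
              (Ideal.Quotient.mk J ((b ⊗ₜ[R] 1) * algebraMap R _ (Coalgebra.counit (R := R) a))) = 0 := by
            rw [Submodule.mkQ_apply, Submodule.Quotient.mk_eq_zero]
            refine ⟨b * algebraMap R B (Coalgebra.counit (R := R) a), ?_⟩
            show Ideal.Quotient.mk J (_ ⊗ₜ[R] (1 : A)) = _
            congr 1
            simp [Algebra.TensorProduct.algebraMap_apply]
          rw [hz, sub_zero] at h''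
          exact h''
      obtain ⟨r, hr, hr0⟩ := Submodule.exists_sub_one_mem_and_smul_eq_zero_of_fg_of_le_smul m (⊤ : Submodule B N)
        Module.Finite.fg_top hmN.ge
      have hrm : r ∈ m := hmax (Module.mem_annihilator.2 fun y => hr0 y trivial)
      exact hm.ne_top ((Ideal.eq_top_iff_one m).2 (by simpa using m.sub_mem hrm hr))
    intro a
    let e : (B ⊗[R] A) ⧸ J →ₐ[B] B := Ideal.Quotient.liftₐ J
      (Algebra.TensorProduct.lift (AlgHom.id B B) ((Algebra.ofId R B).comp (Bialgebra.counitAlgHom R A))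
        fun _ _ => Commute.all _ _)
      (fun z hz => by
        revert z
        show J ≤ RingHom.ker _
        rw [Ideal.span_le]
        rintro _ ⟨b, rfl⟩
        rw [SetLike.mem_coe, RingHom.mem_ker, map_sub, sub_eq_zero]
        have h := congrArg (TensorProduct.rid R B)
          (LinearMap.congr_fun (HopfRep.Comod.counit_comp (k := R) (A := A) (V := B)) b)
        simp only [LinearMap.comp_apply] at h
        refine Eq.trans ?_ ((h.trans (by simp : _ = b)).trans (by simp))
        rw [GLin.coactAlgHom_apply]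
        generalize HopfRep.Comod.coact (k := R) (A := A) b = z
        induction z with
        | zero => simp
        | tmul p q => simp [Algebra.ofId_apply, Algebra.smul_def, mul_comm]
        | add y z hy hz => simp only [map_add, hy, hz])
    obtain ⟨b, hb⟩ : Ideal.Quotient.mk J ((1 : B) ⊗ₜ[R] a) ∈ LinearMap.range (Algebra.linearMap B ((B ⊗[R] A) ⧸ J)) :=
      (Submodule.Quotient.mk_eq_zero _).1 (Subsingleton.elim _ _)
    have hb' : b = algebraMap R B (Coalgebra.counit (R := R) a) := by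
      have := congrArg e hb
      simpa [e, Algebra.ofId_apply] using this
    apply Ideal.Quotient.eq.1
    rw [← hb, hb']
    exact congrArg _ (by simp [Algebra.TensorProduct.algebraMap_apply])
  obtain ⟨L, _, _, c, -, hfac, hinj⟩ := exists_affine_factor T
  obtain ⟨z, rfl⟩ := hfac B ζ
  obtain ⟨γ, hγ⟩ := hfac A g⁻¹
  rw [lift_action_act, hγ, ← comp_tr] at hg
  have hz := hinj B _ _ hg
  have hle : J ≤ RingHom.ker (Algebra.TensorProduct.lift z γ fun _ _ => .all _ _) := by
    rw [Ideal.span_le]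
    rintro _ ⟨b, rfl⟩
    rw [SetLike.mem_coe, RingHom.mem_ker, map_sub, sub_eq_zero]
    exact (AlgHom.congr_fun hz b).trans (by simp)
  have hγ1 : γ = (Algebra.ofId R L).comp (Bialgebra.counitAlgHom R A) := by
    ext a
    have := hle (key a)
    simpa [RingHom.mem_ker, sub_eq_zero, Algebra.ofId_apply] using this
  rw [hγ1, ← one_eq_pt, MonObj.comp_one, inv_eq_one] at hγ
  exact hγ

end Groth.Agent.CoactPts
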